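import Mathlib.GroupTheory.Sylow
import Mathlib.GroupTheory.GroupAction.ConjAct
import Mathlib.GroupTheory.Subgroup.Centralizer
import Mathlib.Algebra.Group.Subgroup.Finite
import Mathlib.Tactic.IntervalCases

/-!
# Group theory for `U₃(11)` in `J₄` (helper785)
-/

set_option autoImplicit false

namespace Cfsg.Agent.H785.JM.Abs

/-! ### Nilpotent maps on a group of order eight -/

section chain

variable {A : Type*} [CommGroup A] (n : A →* A)

/-- the kernels of the iterates -/
def K : ℕ → Subgroup A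
  | 0 => ⊥
  | i + 1 => (K i).comap n

theorem mem_K {i : ℕ} {a : A} : a ∈ K n i ↔ n^[i] a = 1 := by
  induction i generalizing a with
  | zero => exact Subgroup.mem_bot
  | succ i ih =>
    change n a ∈ K n i ↔ _
    rw [ih]
    rfl

theorem K_le (i : ℕ) : K n i ≤ K n (i + 1) := by
  induction i with
  | zero => exact bot_le
  | succ i ih => exact Subgroup.comap_mono ih

theorem stab {i : ℕ} (h : K n (i + 1) = K n i) (j : ℕ) : K n (i + j) = K n i := by
  induction j with
  | zero => rfl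
  | succ j ih =>
    change (K n (i + j)).comap n = K n i
    rw [ih]
    exact h

theorem double {G : Type*} [Group G] [Finite G] {B C : Subgroup G} (h : B < C) : 2 * Nat.card B ≤ Nat.card C := by
  obtain ⟨k, hk⟩ := Subgroup.card_dvd_of_le h.le
  have h1 : Nat.card B < Nat.card C := by
    by_contra hlt
    exact h.ne (Subgroup.eq_of_le_of_card_ge h.le (not_lt.1 hlt))
  have h2 : 0 < Nat.card B := Nat.card_pos
  have h3 : 2 ≤ k := by
    by_contra hlt
    have : k = 0 ∨ k = 1 := by omega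
    rcases this with rfl | rfl
    · omega
    · omega
  rw [hk, mul_comm]
  exact Nat.mul_le_mul_left _ h3

variable [Finite A] {n} (hA : Nat.card A = 8) (h8 : ∀ a, n^[8] a = 1) (h2 : ∃ a, n^[2] a ≠ 1)

omit [Finite A] in
include h8 h2 in
theorem ne2 {i : ℕ} (hi : i ≤ 2) : K n i ≠ K n (i + 1) := by
  intro h
  have h3 := stab n h.symm
  have h4 : K n 8 = ⊤ := by
    rw [eq_top_iff]
    intro a _
    exact (mem_K n).2 (h8 a)
  have h5 : K n (i + (8 - i)) = K n 2 := by
    rw [h3, ← h3 (2 - i)]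
    congr 1
    omega
  rw [show i + (8 - i) = 8 by omega, h4] at h5
  obtain ⟨a, ha⟩ := h2
  exact ha ((mem_K n).1 (h5 ▸ Subgroup.mem_top a))

omit [Finite A] in
include h8 h2 in
theorem lt2 {i : ℕ} (hi : i ≤ 2) : K n i < K n (i + 1) := lt_of_le_of_ne (K_le n i) (ne2 h8 h2 hi)

include hA h8 h2 in
theorem card_K : Nat.card (K n 1) ≤ 2 ∧ K n 3 = ⊤ := by
  have h01 := double (lt2 h8 h2 (i := 0) (by norm_num))
  have h12 := double (lt2 h8 h2 (i := 1) (by norm_num))
  have h23 := double (lt2 h8 h2 (i := 2) (by norm_num))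
  have h3 := Subgroup.card_le_card_group (K n 3)
  have h0 : 0 < Nat.card (K n 0) := Nat.card_pos
  rw [hA] at h3
  norm_num at h01 h12 h23
  refine ⟨by omega, Subgroup.eq_top_of_card_eq _ ?_⟩
  rw [hA]
  omega

include hA h8 h2 in
/-- an invariant subgroup containing a cyclic vector is everything -/
theorem eq_top_of_mem {W : Subgroup A} (hW : ∀ a ∈ W, n a ∈ W) {v : A} (hv : v ∈ W) (hv2 : n^[2] v ≠ 1) :
    W = ⊤ := by
  have h3 : ∀ a, n^[3] a = 1 := fun a => (mem_K n).1 ((card_K hA h8 h2).2 ▸ Subgroup.mem_top a)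
  have h1 : n v ∈ W := hW _ hv
  have h1' : n (n v) ∈ W := hW _ h1
  have e2 : n (n v) ≠ 1 := hv2
  have e3 : n (n (n v)) = 1 := h3 v
  have a1 : W ⊓ K n 0 < W ⊓ K n 1 := by
    refine lt_of_le_of_ne (inf_le_inf_left _ (K_le n 0)) fun h => ?_
    have : n (n v) ∈ W ⊓ K n 1 := ⟨h1', (mem_K n).2 e3⟩
    rw [← h] at this
    exact e2 ((mem_K n).1 this.2)
  have a2 : W ⊓ K n 1 < W ⊓ K n 2 := by
    refine lt_of_le_of_ne (inf_le_inf_left _ (K_le n 1)) fun h => ?_
    have : n v ∈ W ⊓ K n 2 := ⟨h1, (mem_K n).2 e3⟩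
    rw [← h] at this
    exact e2 ((mem_K n).1 this.2)
  have a3 : W ⊓ K n 2 < W := by
    refine lt_of_le_of_ne inf_le_left fun h => ?_
    have : v ∈ W ⊓ K n 2 := by rw [h]; exact hv
    exact e2 ((mem_K n).1 this.2)
  have b1 := double a1
  have b2 := double a2
  have b3 := double a3
  have h0 : 0 < Nat.card (W ⊓ K n 0 : Subgroup A) := Nat.card_pos
  have h4 := Subgroup.card_le_card_group W
  rw [hA] at h4
  refine Subgroup.eq_top_of_card_eq _ ?_
  rw [hA]
  omega

end chain

/-! ### Centralizers in `2³ · L₃(2)` -/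

section cent

variable {G : Type*} [Group G] [Finite G] {Z : Subgroup G}

theorem cent_facts (hZ : Nat.card Z = 8) (hsq : ∀ z ∈ Z, z * z = 1) {x : G} (hx : x ∈ Subgroup.normalizer (Z : Set G))
    (hx8 : x ^ 8 = 1) (hx2 : x ^ 2 ∉ Subgroup.centralizer (Z : Set G)) :
    Nat.card (Z ⊓ Subgroup.centralizer {x} : Subgroup G) ≤ 2 ∧ ∃ v ∈ Z, v ≠ 1 ∧
      ∀ k, k * x = x * k → k * v = v * k → ∀ z ∈ Z, k * z = z * k := by
  have hcomm : ∀ a ∈ Z, ∀ b ∈ Z, a * b = b * a := by
    intro a ha b hb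
    have h1 := hsq _ (Z.mul_mem ha hb)
    have h2 := hsq _ ha
    have h3 := hsq _ hb
    calc a * b = (b * b) * (a * b) * (a * a) := by rw [h2, h3, one_mul, mul_one]
      _ = b * ((b * a) * (b * a)) * a := by group
      _ = b * a := by rw [hsq _ (Z.mul_mem hb ha), mul_one]
  let _ : CommGroup Z := { (inferInstance : Group Z) with
    mul_comm := fun a b => Subtype.ext (hcomm a a.2 b b.2) }
  have hn : ∀ z ∈ Z, x * z * x⁻¹ ∈ Z := fun z hz => (Subgroup.mem_normalizer_iff.1 hx z).1 hz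
  let n : Z →* Z := {
    toFun := fun z => ⟨z * (x * z * x⁻¹), Z.mul_mem z.2 (hn z z.2)⟩
    map_one' := by
      apply Subtype.ext
      simp
    map_mul' := fun a b => by
      apply Subtype.ext
      change (a : G) * b * (x * (a * b) * x⁻¹) = a * (x * a * x⁻¹) * (b * (x * b * x⁻¹))
      have h1 := hcomm b b.2 _ (hn a a.2)
      calc (a : G) * b * (x * (a * b) * x⁻¹) = a * (b * (x * a * x⁻¹)) * (x * b * x⁻¹) := by group
        _ = _ := by rw [h1]; group }
  have hnv : ∀ z : Z, ((n z : Z) : G) = z * (x * z * x⁻¹) := fun z => rfl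
  have h2pow : ∀ (i : ℕ) (z : Z), ((n^[2 ^ i] z : Z) : G) = z * (x ^ 2 ^ i * z * (x ^ 2 ^ i)⁻¹) := by
    intro i
    induction i with
    | zero => intro z; simp [hnv]
    | succ i ih =>
      intro z
      rw [pow_succ, mul_two, Function.iterate_add_apply, ih, ih]
      set y := x ^ 2 ^ i with hy
      have hyn : ∀ z ∈ Z, y * z * y⁻¹ ∈ Z := fun z hz =>
        (Subgroup.mem_normalizer_iff.1 ((Subgroup.normalizer (Z : Set G)).pow_mem hx _) z).1 hz
      have e : x ^ (2 ^ i + 2 ^ i) = y * y := by rw [pow_add]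
      rw [e]
      have h1 := hsq _ (hyn z z.2)
      calc (z : G) * (y * z * y⁻¹) * (y * (z * (y * z * y⁻¹)) * y⁻¹)
          = z * ((y * z * y⁻¹) * (y * z * y⁻¹)) * (y * y * z * (y * y)⁻¹) := by group
        _ = z * (y * y * z * (y * y)⁻¹) := by rw [h1, mul_one]
  have h8 : ∀ a, n^[8] a = 1 := by
    intro a
    apply Subtype.ext
    have := h2pow 3 a
    norm_num at this
    refine Eq.trans this ?_
    rw [hx8]
    simpa using hsq _ a.2
  have h2 : ∃ a, n^[2] a ≠ 1 := by
    by_contra hall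
    push Not at hall
    apply hx2
    rw [Subgroup.mem_centralizer_iff]
    intro z hz
    have h1 := h2pow 1 ⟨z, hz⟩
    norm_num at h1
    have h3 : n (n ⟨z, hz⟩) = 1 := hall ⟨z, hz⟩
    rw [h3] at h1
    have h4 : z * (x ^ 2 * z * (x ^ 2)⁻¹) = z * z := by
      rw [hsq z hz]
      exact h1.symm
    have h5 := mul_left_cancel h4
    calc z * x ^ 2 = (x ^ 2 * z * (x ^ 2)⁻¹) * x ^ 2 := by rw [h5]
      _ = x ^ 2 * z := by group
  have hfix : ∀ z : Z, n z = 1 ↔ z.1 * x = x * z.1 := by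
    intro z
    constructor
    · intro h
      have h1 : (z : G) * (x * z * x⁻¹) = z * z := by
        rw [hsq z z.2, ← hnv, h]
        rfl
      have h3 := mul_left_cancel h1
      calc z.1 * x = (x * z * x⁻¹) * x := by rw [h3]
        _ = x * z := by group
    · intro h
      apply Subtype.ext
      rw [hnv, ← h, mul_inv_cancel_right]
      exact hsq z z.2
  constructor
  · have h3 := (card_K hZ h8 h2).1
    refine le_trans ?_ h3
    let f : (Z ⊓ Subgroup.centralizer {x} : Subgroup G) → K n 1 := fun y => ⟨⟨y.1, y.2.1⟩, by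
      rw [mem_K]
      change n ⟨y.1, y.2.1⟩ = 1
      rw [hfix]
      exact (Subgroup.mem_centralizer_iff.1 y.2.2 x rfl).symm⟩
    refine Nat.card_le_card_of_injective f fun a b hab => ?_
    apply Subtype.ext
    exact congrArg (fun t : K n 1 => (t.1 : G)) hab
  · obtain ⟨v, hv⟩ := h2
    refine ⟨v.1, v.2, fun h => hv ?_, ?_⟩
    · have : v = 1 := Subtype.ext h
      rw [this]
      change n (n 1) = 1
      rw [map_one, map_one]
    · intro k hkx hkv z hz
      let W : Subgroup Z := (Subgroup.centralizer {k}).subgroupOf Z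
      have hW : ∀ a : Z, a ∈ W ↔ k * a = a * k := by
        intro a
        change (a : G) ∈ Subgroup.centralizer {k} ↔ _
        rw [Subgroup.mem_centralizer_iff]
        constructor
        · intro h
          exact h k rfl
        · rintro h _ rfl
          exact h
      have h4 : W = ⊤ := by
        refine eq_top_of_mem (n := n) hZ h8 ⟨v, hv⟩ ?_ ((hW v).2 hkv) hv
        intro a ha
        rw [hW] at ha ⊢
        rw [hnv]
        have hkx' : k * x⁻¹ = x⁻¹ * k := by
          calc k * x⁻¹ = x⁻¹ * (x * k) * x⁻¹ := by group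
            _ = x⁻¹ * (k * x) * x⁻¹ := by rw [hkx]
            _ = x⁻¹ * k := by group
        calc k * (a * (x * a * x⁻¹)) = (k * a) * x * a * x⁻¹ := by group
          _ = a * (k * x) * a * x⁻¹ := by rw [ha]; group
          _ = a * x * (k * a) * x⁻¹ := by rw [hkx]; group
          _ = a * x * a * (k * x⁻¹) := by rw [ha]; group
          _ = a * (x * a * x⁻¹) * k := by rw [hkx']; group
      have h5 : (⟨z, hz⟩ : Z) ∈ W := h4 ▸ Subgroup.mem_top _
      exact (hW _).1 h5

theorem card_cent (hZ : Nat.card Z = 8) (hsq : ∀ z ∈ Z, z * z = 1) {x : G} (hx : x ∈ Subgroup.normalizer (Z : Set G))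
    (hx8 : x ^ 8 = 1) (hx2 : x ^ 2 ∉ Subgroup.centralizer (Z : Set G)) {C : Subgroup G}
    (hCx : C ≤ Subgroup.centralizer {x}) (hCn : C ≤ Subgroup.normalizer (Z : Set G))
    (hCZ : C ⊓ Subgroup.centralizer (Z : Set G) ≤ Z) : Nat.card C ≤ 14 := by
  obtain ⟨h1, v, hv, hv1, h2⟩ := cent_facts hZ hsq hx hx8 hx2
  have hCx' : ∀ k ∈ C, k * x = x * k := fun k hk => (Subgroup.mem_centralizer_iff.1 (hCx hk) x rfl).symm
  set S := (Subgroup.centralizer {v}).subgroupOf C with hS
  have hmem : ∀ k : C, k ∈ S ↔ k.1 * v = v * k.1 := by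
    intro k
    rw [hS, Subgroup.mem_subgroupOf, Subgroup.mem_centralizer_iff]
    constructor
    · intro h
      exact (h v rfl).symm
    · rintro h _ rfl
      exact h.symm
  have hSc : Nat.card S ≤ 2 := by
    refine le_trans ?_ h1
    let f : S → (Z ⊓ Subgroup.centralizer {x} : Subgroup G) := fun y => ⟨y.1.1, hCZ ⟨y.1.2, by
      change y.1.1 ∈ Subgroup.centralizer (Z : Set G)
      rw [Subgroup.mem_centralizer_iff]
      intro z hz
      exact (h2 _ (hCx' _ y.1.2) ((hmem _).1 y.2) z hz).symm⟩, hCx y.1.2⟩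
    refine Nat.card_le_card_of_injective f fun a b hab => ?_
    apply Subtype.ext
    apply Subtype.ext
    exact congrArg (fun t : (Z ⊓ Subgroup.centralizer {x} : Subgroup G) => t.1) hab
  have hidx : S.index ≤ 7 := by
    have hn : ∀ k : C, k.1 * v * k.1⁻¹ ∈ Z := fun k => (Subgroup.mem_normalizer_iff.1 (hCn k.2) v).1 hv
    let f : C ⧸ S → {z : Z // z ≠ 1} := Quotient.lift (fun k : C => ⟨⟨k.1 * v * k.1⁻¹, hn k⟩, fun h => hv1 (by
        have h3 : k.1 * v * k.1⁻¹ = 1 := congrArg Subtype.val h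
        rw [mul_inv_eq_one] at h3
        simpa using h3)⟩) (by
      intro a b hab
      have hab' : a⁻¹ * b ∈ S := QuotientGroup.leftRel_apply.1 hab
      rw [hmem] at hab'
      apply Subtype.ext
      apply Subtype.ext
      change a.1 * v * a.1⁻¹ = b.1 * v * b.1⁻¹
      have h3 : a.1⁻¹ * b.1 * v = v * (a.1⁻¹ * b.1) := hab'
      calc a.1 * v * a.1⁻¹ = a.1 * (v * (a.1⁻¹ * b.1)) * b.1⁻¹ := by group
        _ = a.1 * (a.1⁻¹ * b.1 * v) * b.1⁻¹ := by rw [h3]
        _ = b.1 * v * b.1⁻¹ := by group)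
    have hf : Function.Injective f := by
      intro a b
      refine Quotient.inductionOn₂ a b fun a b hab => ?_
      apply QuotientGroup.eq.2
      rw [hmem]
      have h3 : a.1 * v * a.1⁻¹ = b.1 * v * b.1⁻¹ := congrArg (fun t : {z : Z // z ≠ 1} => (t.1 : G)) hab
      change a.1⁻¹ * b.1 * v = v * (a.1⁻¹ * b.1)
      calc a.1⁻¹ * b.1 * v = a.1⁻¹ * (b.1 * v * b.1⁻¹) * b.1 := by group
        _ = a.1⁻¹ * (a.1 * v * a.1⁻¹) * b.1 := by rw [h3]
        _ = v * (a.1⁻¹ * b.1) := by group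
    have h3 := Nat.card_le_card_of_injective f hf
    have h4 : Nat.card {z : Z // z ≠ 1} = 7 := by
      classical
      have := Nat.card_congr (Equiv.Set.sumCompl ({1} : Set Z))
      rw [Nat.card_sum, hZ] at this
      have h5 : Nat.card ({1} : Set Z) = 1 := by simp
      rw [h5] at this
      have h6 : Nat.card {z : Z // z ≠ 1} = Nat.card ({1}ᶜ : Set Z) := rfl
      omega
    rw [h4] at h3
    exact h3
  have := S.card_mul_index
  rw [← this]
  calc Nat.card S * S.index ≤ 2 * 7 := Nat.mul_le_mul hSc hidx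
    _ = 14 := by norm_num

end cent

end Cfsg.Agent.H785.JM.Abs
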