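import Mathlib.LinearAlgebra.Matrix.GeneralLinearGroup.Card
import Mathlib.GroupTheory.OrderOfElement
import Mathlib.Tactic.LinearCombination

/-!
# Elements of order eight in `GL₂(3)` (helper785)
-/

set_option autoImplicit false

namespace Cfsg.Agent.H785.JM.GLTwo

open Subgroup

/-- codes -/
def mk (a b c d : ℕ) : ℕ := a % 3 + 3 * (b % 3) + 9 * (c % 3) + 27 * (d % 3)

/-- products of codes -/
def mul (x y : ℕ) : ℕ := mk (x % 3 * (y % 3) + x / 3 % 3 * (y / 9 % 3)) (x % 3 * (y / 3 % 3) + x / 3 % 3 * (y / 27 % 3))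
  (x / 9 % 3 * (y % 3) + x / 27 % 3 * (y / 9 % 3)) (x / 9 % 3 * (y / 3 % 3) + x / 27 % 3 * (y / 27 % 3))

/-- squares -/
def sq (x : ℕ) : ℕ := mul x x

/-- determinants -/
def dt (x : ℕ) : ℕ := (x % 3 * (x / 27 % 3) + 2 * (x / 3 % 3 * (x / 9 % 3))) % 3

theorem table : ∀ m < 81, sq (sq m) ≠ 28 → sq (sq (sq m)) = 28 →
    ∃ e < 81, dt e ≠ 0 ∧ (mul e m = mul 39 e ∨ mul e m = mul 14 e) := by decide +kernel

/-- the code of a matrix -/
def cd (g : Matrix (Fin 2) (Fin 2) (ZMod 3)) : ℕ := mk (g 0 0).val (g 0 1).val (g 1 0).val (g 1 1).val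

theorem mk_lt (a b c d : ℕ) : mk a b c d < 81 := by
  unfold mk
  omega

theorem d1 (a b c d : ℕ) : mk a b c d % 3 = a % 3 := by unfold mk; omega
theorem d2 (a b c d : ℕ) : mk a b c d / 3 % 3 = b % 3 := by unfold mk; omega
theorem d3 (a b c d : ℕ) : mk a b c d / 9 % 3 = c % 3 := by unfold mk; omega
theorem d4 (a b c d : ℕ) : mk a b c d / 27 % 3 = d % 3 := by unfold mk; omega

theorem mk_congr {a b c d a' b' c' d' : ℕ} (h1 : a % 3 = a' % 3) (h2 : b % 3 = b' % 3) (h3 : c % 3 = c' % 3)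
    (h4 : d % 3 = d' % 3) : mk a b c d = mk a' b' c' d' := by
  unfold mk
  rw [h1, h2, h3, h4]

theorem aux (x y z w : ZMod 3) : (x * y + z * w).val % 3 = (x.val % 3 * (y.val % 3) + z.val % 3 * (w.val % 3)) % 3 := by
  rw [ZMod.val_add, ZMod.val_mul, ZMod.val_mul]
  simp [Nat.add_mod, Nat.mul_mod]

theorem cd_mul (g h : Matrix (Fin 2) (Fin 2) (ZMod 3)) : cd (g * h) = mul (cd g) (cd h) := by
  unfold mul
  rw [cd, cd, cd, d1, d2, d3, d4, d1, d2, d3, d4]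
  simp only [Matrix.mul_apply, Fin.sum_univ_two]
  exact mk_congr (aux _ _ _ _) (aux _ _ _ _) (aux _ _ _ _) (aux _ _ _ _)

theorem val_inj {x y : ZMod 3} (h : x.val % 3 = y.val % 3) : x = y := by
  rw [Nat.mod_eq_of_lt (ZMod.val_lt x), Nat.mod_eq_of_lt (ZMod.val_lt y)] at h
  exact ZMod.val_injective 3 h

theorem cd_injective : Function.Injective cd := by
  intro g h hgh
  have h1 : cd g % 3 = cd h % 3 := by rw [hgh]
  have h2 : cd g / 3 % 3 = cd h / 3 % 3 := by rw [hgh]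
  have h3 : cd g / 9 % 3 = cd h / 9 % 3 := by rw [hgh]
  have h4 : cd g / 27 % 3 = cd h / 27 % 3 := by rw [hgh]
  rw [cd, cd, d1, d1] at h1
  rw [cd, cd, d2, d2] at h2
  rw [cd, cd, d3, d3] at h3
  rw [cd, cd, d4, d4] at h4
  ext i j
  fin_cases i <;> fin_cases j
  · exact val_inj h1
  · exact val_inj h2
  · exact val_inj h3
  · exact val_inj h4

theorem cd_one : cd 1 = 28 := by decide +kernel

theorem exists_of_mat' {K : Type*} [CommRing K] (M : Matrix (Fin 2) (Fin 2) K) (h : IsUnit M.det) :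
    ∃ g : GL (Fin 2) K, g.1 = M :=
  ⟨Matrix.nonsingInvUnit M h, rfl⟩

theorem sq_one : ∀ x : ZMod 3, x ≠ 0 → x * x = 1 := by decide +kernel

theorem exists_of_mat (M : Matrix (Fin 2) (Fin 2) (ZMod 3)) (h : M.det ≠ 0) : ∃ g : GL (Fin 2) (ZMod 3), g.1 = M :=
  exists_of_mat' M (IsUnit.of_mul_eq_one _ (sq_one _ h))

theorem cd_of (a b c d : ZMod 3) : cd !![a, b; c, d] = mk a.val b.val c.val d.val := rfl

theorem exists_of_dt {e : ℕ} (he : e < 81) (h : dt e ≠ 0) : ∃ g : GL (Fin 2) (ZMod 3), cd g.1 = e := by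
  have hv : ∀ n : ℕ, ((n : ZMod 3)).val = n % 3 := fun n => ZMod.val_natCast 3 n
  obtain ⟨g, hg⟩ := exists_of_mat !![((e % 3 : ℕ) : ZMod 3), ((e / 3 % 3 : ℕ) : ZMod 3);
    ((e / 9 % 3 : ℕ) : ZMod 3), ((e / 27 % 3 : ℕ) : ZMod 3)] (by
    rw [Matrix.det_fin_two_of]
    intro h0
    apply h
    unfold dt
    have h1 : ((e % 3 * (e / 27 % 3) + 2 * (e / 3 % 3 * (e / 9 % 3)) : ℕ) : ZMod 3) = 0 := by
      have h3 : (3 : ZMod 3) = 0 := by decide
      rw [Nat.cast_add, Nat.cast_mul, Nat.cast_mul, Nat.cast_mul, Nat.cast_ofNat]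
      generalize ((e % 3 : ℕ) : ZMod 3) = x at h0 ⊢
      generalize ((e / 3 % 3 : ℕ) : ZMod 3) = y at h0 ⊢
      generalize ((e / 9 % 3 : ℕ) : ZMod 3) = z at h0 ⊢
      generalize ((e / 27 % 3 : ℕ) : ZMod 3) = w at h0 ⊢
      linear_combination h0 + (y * z) * h3
    rw [ZMod.natCast_eq_zero_iff] at h1
    exact Nat.mod_eq_zero_of_dvd h1)
  refine ⟨g, ?_⟩
  rw [hg, cd_of, hv, hv, hv, hv]
  unfold mk
  omega

/-- an element of order eight -/
def m0 : GL (Fin 2) (ZMod 3) := ⟨!![0, 1; 1, 1], !![2, 1; 1, 0], by decide +kernel, by decide +kernel⟩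

theorem cd_m0 : cd m0.1 = 39 := by decide +kernel
theorem cd_m0i : cd (m0⁻¹).1 = 14 := by decide +kernel

theorem gl_conj0 {g : GL (Fin 2) (ZMod 3)} (h : orderOf g = 8) : ∃ b, b * g * b⁻¹ = m0 ∨ b * g * b⁻¹ = m0⁻¹ := by
  have h4 : sq (sq (cd g.1)) = cd (g ^ 4).1 := by
    rw [sq, sq, ← cd_mul, ← cd_mul]
    congr 1
    rw [Units.val_pow_eq_pow_val]
    simp only [pow_succ, pow_zero, one_mul, mul_assoc]
  have h8 : sq (sq (sq (cd g.1))) = cd (g ^ 8).1 := by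
    rw [h4, sq, ← cd_mul, ← Units.val_mul, ← pow_add]
  obtain ⟨e, he, hd, hc⟩ := table (cd g.1) (mk_lt _ _ _ _) (by
    rw [h4, ← cd_one]
    intro h1
    have h2 : g ^ 4 = 1 := Units.ext (cd_injective h1)
    have := orderOf_dvd_of_pow_eq_one h2
    rw [h] at this
    norm_num at this) (by
    rw [h8, ← h, pow_orderOf_eq_one]
    exact cd_one)
  obtain ⟨b, hb⟩ := exists_of_dt he hd
  refine ⟨b, ?_⟩
  rw [mul_inv_eq_iff_eq_mul, mul_inv_eq_iff_eq_mul]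
  rcases hc with hc | hc
  · left
    apply Units.ext
    apply cd_injective
    rw [Units.val_mul, Units.val_mul, cd_mul, cd_mul, hb, cd_m0, hc]
  · right
    apply Units.ext
    apply cd_injective
    rw [Units.val_mul, Units.val_mul, cd_mul, cd_mul, hb, cd_m0i, hc]

theorem gl_conj {g h : GL (Fin 2) (ZMod 3)} (hg : orderOf g = 8) (hh : orderOf h = 8) :
    ∃ b, b * g * b⁻¹ ∈ zpowers h := by
  obtain ⟨x, hx⟩ := gl_conj0 hg
  obtain ⟨y, hy⟩ := gl_conj0 hh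
  have h1 : x * g * x⁻¹ ∈ zpowers (y * h * y⁻¹) := by
    rcases hx with hx | hx <;> rcases hy with hy | hy <;> rw [hx, hy]
    · exact mem_zpowers _
    · exact mem_zpowers_iff.2 ⟨-1, by simp⟩
    · exact mem_zpowers_iff.2 ⟨-1, by simp⟩
    · exact mem_zpowers _
  obtain ⟨k, hk⟩ := mem_zpowers_iff.1 h1
  refine ⟨y⁻¹ * x, mem_zpowers_iff.2 ⟨k, ?_⟩⟩
  have h2 : (y * h * y⁻¹) ^ k = y * h ^ k * y⁻¹ := conj_zpow
  rw [h2] at hk
  calc h ^ k = y⁻¹ * (y * h ^ k * y⁻¹) * y := by group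
    _ = y⁻¹ * (x * g * x⁻¹) * y := by rw [hk]
    _ = y⁻¹ * x * g * (y⁻¹ * x)⁻¹ := by group

end Cfsg.Agent.H785.JM.GLTwo
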